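import Groth.Agent.Lib.CritMod6.BaseChange
import Groth.Agent.Lib.FittSheaf.PullbackFP
import Groth.Agent.Lib.FibreBC.Basic

/-!
# Flatness on the fibres, under base change and restriction
-/

set_option autoImplicit false
set_option backward.isDefEq.respectTransparency false
set_option linter.all false
set_option maxHeartbeats 1000000

universe u

open AlgebraicGeometry CategoryTheory Limits IsLocalRing

noncomputable section

namespace GrothLib.FibFlatLocus13

open GrothLib CritMod6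

variable {X Y S : Scheme.{u}} (f : X ⟶ Y) (g : Y ⟶ S)

theorem fibreFlatAt_congr {F G : X.Modules} (e : F ≅ G) (x : X) :
    FibreFlatAt f g F x ↔ FibreFlatAt f g G x := by
  obtain ⟨z, hz⟩ : ∃ z, (f ≫ g).fiberι ((f ≫ g) x) z = x := ⟨_, (f ≫ g).fiberι_asFiber x⟩
  rw [← fibreFlatAt_iff f g F x _ z hz, ← fibreFlatAt_iff f g G x _ z hz]
  exact FlatFP.isFlatOverAt_congr _ ((Scheme.Modules.pullback _).mapIso e) z

/-- Cartesian over the target, with a flat map of fibres. -/
theorem fibreFlatAt_iff_of_isPullback (F : X.Modules) [F.IsQuasicoherent] {X' Y' S' : Scheme.{u}}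
    (f' : X' ⟶ Y') (g' : Y' ⟶ S') (gX : X' ⟶ X) (gY : Y' ⟶ Y) (hsq : IsPullback gX f' f gY)
    (x' : X') (s : S) {s' : S'} (z' : (f' ≫ g').fiber s') (hz' : (f' ≫ g').fiberι s' z' = x')
    (b : g'.fiber s' ⟶ g.fiber s) [Flat b] (hb : b ≫ g.fiberι s = g'.fiberι _ ≫ gY) :
    FibreFlatAt f' g' ((Scheme.Modules.pullback gX).obj F) x' ↔ FibreFlatAt f g F (gX x') := by
  have hr := isPullback_fiberMap f g s
  let a : (f' ≫ g').fiber s' ⟶ (f ≫ g).fiber s :=
    hr.lift ((f' ≫ g').fiberι s' ≫ gX) (MoreMor.fiberMap f' g' s' ≫ b) (by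
      rw [Category.assoc, hsq.w, Category.assoc, hb, reassoc_of% (isPullback_fiberMap f' g' s').w])
  have ha : a ≫ (f ≫ g).fiberι s = (f' ≫ g').fiberι s' ≫ gX := hr.lift_fst ..
  have hapb : IsPullback a (MoreMor.fiberMap f' g' s') (MoreMor.fiberMap f g s) b := by
    refine IsPullback.of_right ?_ (hr.lift_snd ..) hr
    rw [ha, hb]
    exact (isPullback_fiberMap f' g' s').paste_horiz hsq
  let e : (Scheme.Modules.pullback ((f' ≫ g').fiberι s')).obj ((Scheme.Modules.pullback gX).obj F) ≅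
      (Scheme.Modules.pullback a).obj ((Scheme.Modules.pullback ((f ≫ g).fiberι s)).obj F) :=
    (Scheme.Modules.pullbackComp _ _).app F ≪≫ eqToIso (by rw [← ha]) ≪≫
      ((Scheme.Modules.pullbackComp _ _).app F).symm
  have hz : (f ≫ g).fiberι s (a z') = gX x' := by
    rw [← Scheme.Hom.comp_apply, ha, Scheme.Hom.comp_apply, hz']
  rw [← fibreFlatAt_iff f' g' _ x' s' z' hz', ← fibreFlatAt_iff f g F (gX x') s (a z') hz,
    FlatFP.isFlatOverAt_congr _ e z']
  haveI := FittSheaf.isQuasicoherent_pullback ((f ≫ g).fiberι s) F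
  exact ⟨fun h => FunFlat6.isFlatOverAt_descend hapb _ z' (Flat.stalkMap b _) h,
    fun h => FlatFP.isFlatOverAt_baseChange _ _ a b hapb _ z' h⟩

/-- Invariance under base change. -/
theorem fibreFlatAt_baseChange (F : X.Modules) [F.IsQuasicoherent] {X' Y' S' : Scheme.{u}}
    {f' : X' ⟶ Y'} {g' : Y' ⟶ S'} {gX : X' ⟶ X} {gY : Y' ⟶ Y} {h : S' ⟶ S}
    (hY : IsPullback gY g' g h) (hX : IsPullback gX f' f gY) (x' : X') :
    FibreFlatAt f' g' ((Scheme.Modules.pullback gX).obj F) x' ↔ FibreFlatAt f g F (gX x') := by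
  obtain ⟨b, hb, hbpb⟩ := FibreBC.exists_isPullback_fiber hY ((f' ≫ g') x')
  haveI : Flat (Spec.map (h.residueFieldMap ((f' ≫ g') x'))) := flat_SpecMap_residueFieldMap h _
  haveI : Flat b := MorphismProperty.of_isPullback hbpb.flip inferInstance
  exact fibreFlatAt_iff_of_isPullback f g F f' g' gX gY hX x' _ _ ((f' ≫ g').fiberι_asFiber x') b hb

/-- Invariance under a flat map to the middle scheme. -/
theorem fibreFlatAt_middle (F : X.Modules) [F.IsQuasicoherent] {X' Y' : Scheme.{u}}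
    (f' : X' ⟶ Y') (gX : X' ⟶ X) (gY : Y' ⟶ Y) [Flat gY] (hsq : IsPullback gX f' f gY) (x' : X') :
    FibreFlatAt f' (gY ≫ g) ((Scheme.Modules.pullback gX).obj F) x' ↔ FibreFlatAt f g F (gX x') := by
  have hm := isPullback_fiberMap gY g ((f' ≫ gY ≫ g) x')
  haveI : Flat (MoreMor.fiberMap gY g ((f' ≫ gY ≫ g) x')) := MorphismProperty.of_isPullback hm ‹_›
  exact fibreFlatAt_iff_of_isPullback f g F f' (gY ≫ g) gX gY hsq x' _ _ ((f' ≫ gY ≫ g).fiberι_asFiber x')
    (MoreMor.fiberMap gY g _) hm.w.symm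

/-- Invariance under a flat map to the source. -/
theorem fibreFlatAt_source (F : X.Modules) {X' : Scheme.{u}} (gX : X' ⟶ X) [Flat gX] (x' : X') :
    FibreFlatAt (gX ≫ f) g ((Scheme.Modules.pullback gX).obj F) x' ↔ FibreFlatAt f g F (gX x') := by
  set s := ((gX ≫ f) ≫ g) x'
  obtain ⟨z', hz'⟩ : ∃ z', ((gX ≫ f) ≫ g).fiberι s z' = x' := ⟨_, ((gX ≫ f) ≫ g).fiberι_asFiber x'⟩
  have hr := isPullback_fiberMap f g s
  have hr' := isPullback_fiberMap (gX ≫ f) g s
  let a : ((gX ≫ f) ≫ g).fiber s ⟶ (f ≫ g).fiber s :=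
    hr.lift (((gX ≫ f) ≫ g).fiberι s ≫ gX) (MoreMor.fiberMap (gX ≫ f) g s) ((Category.assoc _ _ _).trans hr'.w)
  have ha : a ≫ (f ≫ g).fiberι s = ((gX ≫ f) ≫ g).fiberι s ≫ gX := hr.lift_fst ..
  have hfm : a ≫ MoreMor.fiberMap f g s = MoreMor.fiberMap (gX ≫ f) g s := hr.lift_snd ..
  have hapb : IsPullback (((gX ≫ f) ≫ g).fiberι s) a gX ((f ≫ g).fiberι s) := by
    refine IsPullback.of_bot ?_ ha.symm hr
    rw [hfm]
    exact hr'
  haveI : Flat a := MorphismProperty.of_isPullback hapb ‹_›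
  let e : (Scheme.Modules.pullback (((gX ≫ f) ≫ g).fiberι s)).obj ((Scheme.Modules.pullback gX).obj F) ≅
      (Scheme.Modules.pullback a).obj ((Scheme.Modules.pullback ((f ≫ g).fiberι s)).obj F) :=
    (Scheme.Modules.pullbackComp _ _).app F ≪≫ eqToIso (by rw [← ha]) ≪≫
      ((Scheme.Modules.pullbackComp _ _).app F).symm
  have hz : (f ≫ g).fiberι s (a z') = gX x' := by
    rw [← Scheme.Hom.comp_apply, ha, Scheme.Hom.comp_apply, hz']
  rw [← fibreFlatAt_iff (gX ≫ f) g _ x' s z' hz', ← fibreFlatAt_iff f g F (gX x') s (a z') hz,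
    FlatFP.isFlatOverAt_congr _ e z', ← FunFlat6.isFlatOverAt_congr_map hfm]
  exact FlatDesc.isFlatOverAt_comp_pullback_iff a _ _ z'

theorem flat_quot_congr {A M : Type u} [CommRing A] [AddCommGroup M] [Module A M] {J J' : Ideal A}
    (h : J = J') : Module.Flat (A ⧸ J) (M ⧸ J • (⊤ : Submodule A M)) ↔
      Module.Flat (A ⧸ J') (M ⧸ J' • (⊤ : Submodule A M)) := by
  subst h; rfl

/-- Invariance under an open immersion of the base. -/
theorem fibreFlatAt_openBase (F : X.Modules) {S' : Scheme.{u}} (j : S ⟶ S') [IsOpenImmersion j] (x : X) :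
    FibreFlatAt f (g ≫ j) F x ↔ FibreFlatAt f g F x := by
  letI := FlatMod.moduleStalkOver f F x
  refine flat_quot_congr (M := F.presheaf.stalk x) ?_
  have hm : (maximalIdeal (S'.presheaf.stalk (j (g (f x))))).map (j.stalkMap (g (f x))).hom =
      maximalIdeal (S.presheaf.stalk (g (f x))) := by
    have hbij := ConcreteCategory.bijective_of_isIso (j.stalkMap (g (f x)))
    let e := RingEquiv.ofBijective (j.stalkMap (g (f x))).hom hbij
    refine le_antisymm (((Ideal.map_le_iff_le_comap).2 fun a ha hu => ha (isUnit_of_map_unit (j.stalkMap (g (f x))).hom a hu))) fun b hb => ?_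
    obtain ⟨a, rfl⟩ := hbij.2 b
    exact Ideal.mem_map_of_mem _ fun hu => hb (hu.map _)
  rw [Scheme.Hom.stalkMap_comp, CommRingCat.hom_comp, ← Ideal.map_map]
  exact congrArg _ hm

end GrothLib.FibFlatLocus13
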