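import Groth.Agent.Lib.FibFlatLocus13.Inv
import Groth.Agent.Lib.DiagGrp.KernelFP
import Groth.Agent.Lib.GenFree.Sheaf
import Groth.Agent.Lib.NoethTop.Constructible
import Groth.Agent.Lib.FlatFP.SheafFlat
import Groth.Agent.Lib.ConsLim.Main
import Groth.Agent.Lib.ModDesc5.FlatStage
import Groth.Agent.Lib.FunMor20.CohInd

/-!
# The locus of flatness on the fibres is locally constructible
-/

set_option autoImplicit false
set_option backward.isDefEq.respectTransparency false
set_option linter.all false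
set_option maxHeartbeats 2000000

universe u

open AlgebraicGeometry CategoryTheory Limits Topology Set

noncomputable section

namespace GrothLib.FibFlatLocus13

open GrothLib CritMod6
open GrothLib.LimDescend

/-- Over an integral Noetherian base the locus is the flat locus over a nonempty open. -/
theorem exists_open_eq {X Y S : Scheme.{u}} (f : X ⟶ Y) (g : Y ⟶ S) [IsIntegral S] [IsNoetherian S]
    [LocallyOfFiniteType g] [LocallyOfFinitePresentation (f ≫ g)] [QuasiCompact (f ≫ g)]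
    (F : X.Modules) [F.IsQuasicoherent] (hF : CohB1.IsFP F) :
    ∃ (V : S.Opens) (O : Set X), (V : Set S).Nonempty ∧ IsOpen O ∧
      ∀ x, (f ≫ g) x ∈ V → (FibreFlatAt f g F x ↔ x ∈ O) := by
  have hFT : CohB1.IsFT F := (QCoh.isFiniteType_iff_moduleFinite _).2 fun U hU => by
    haveI := FlatFP.finitePresentation_sections F hF hU
    infer_instance
  obtain ⟨V, hV, hfl⟩ := GenFree.exists_isFlatOverAt (f ≫ g) F hFT
  haveI : LocallyOfFinitePresentation f := DiagGrp.lfp_of_comp_of_lft f g inferInstance inferInstance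
  exact ⟨V, {x | FlatMod.IsFlatOverAt f F x}, hV, FlatFP.isOpen_flatLocus f F hF, fun x hx =>
    ⟨fun h => isFlatOverAt_of_fibre f g F x hF (hfl x hx) h, fun h => fibreFlatAt_of_isFlatOverAt f g F x h⟩⟩

theorem isConstructible_of_noetherian {X Y S : Scheme.{u}} (f : X ⟶ Y) (g : Y ⟶ S) [IsLocallyNoetherian S]
    [LocallyOfFiniteType g] [LocallyOfFinitePresentation (f ≫ g)] [QuasiCompact (f ≫ g)]
    [IsNoetherian X] (F : X.Modules) [F.IsQuasicoherent] (hF : CohB1.IsFP F) [CompactSpace S] :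
    IsConstructible {x : X | FibreFlatAt f g F x} := by
  refine NoethTop.isConstructible_of_forall fun T hTc hTi hdense => ?_
  obtain ⟨η, hη⟩ := QuasiSober.sober hTi hTc
  let s := (f ≫ g) η
  let j := CycPush.clι s
  haveI : IsLocallyNoetherian (CycPush.clSub s) := LocallyOfFiniteType.isLocallyNoetherian j
  haveI : CompactSpace (CycPush.clSub s) := QuasiCompact.compactSpace_of_compactSpace j
  haveI : IsNoetherian (CycPush.clSub s) := ⟨⟩
  let qY := pullback.fst g j
  let g' := pullback.snd g j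
  let qX := pullback.fst f qY
  let f' := pullback.snd f qY
  have hY : IsPullback qY g' g j := IsPullback.of_hasPullback _ _
  have hX : IsPullback qX f' f qY := IsPullback.of_hasPullback _ _
  haveI : LocallyOfFinitePresentation (f' ≫ g') := ConsLim.qc_qs_lft_comp hY hX @LocallyOfFinitePresentation ‹_›
  haveI : QuasiCompact (f' ≫ g') := ConsLim.qc_qs_lft_comp hY hX @QuasiCompact ‹_›
  haveI : LocallyOfFiniteType g' := MorphismProperty.pullback_snd g j ‹_›
  haveI : IsClosedImmersion qY := MorphismProperty.pullback_fst g j inferInstance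
  haveI : IsClosedImmersion qX := MorphismProperty.pullback_fst f qY inferInstance
  haveI := FittSheaf.isQuasicoherent_pullback qX F
  obtain ⟨V, O, hV, hO, hVO⟩ := exists_open_eq f' g' ((Scheme.Modules.pullback qX).obj F)
    (FittSheaf.isFP_pullback qX F hF)
  have hrange : Set.range qX = (f ≫ g) ⁻¹' closure {s} := by
    show Set.range (pullback.fst f (pullback.fst g j)) = _
    rw [Scheme.Pullback.range_fst, Scheme.Pullback.range_fst, CycPush.range_clι]
    ext x
    simp [Scheme.Hom.comp_apply]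
  have hTr : T ⊆ Set.range qX := by
    rw [hrange]
    intro y hy
    exact specializes_iff_mem_closure.1 ((hη.specializes hy).map (f ≫ g).continuous)
  obtain ⟨η', hη'⟩ := hTr hη.mem
  have hgz : (f' ≫ g') η' = genericPoint (CycPush.clSub s) := by
    refine j.isClosedEmbedding.injective ?_
    rw [CycPush.clι_genericPoint, ← Scheme.Hom.comp_apply, ← (hX.paste_vert hY).w, Scheme.Hom.comp_apply, hη']
  have hη'V : (f' ≫ g') η' ∈ V := by
    rw [hgz]
    exact ((genericPoint_spec _).mem_open_set_iff V.isOpen).2 (by simpa using hV)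
  have hind := qX.isClosedEmbedding.isEmbedding.isInducing
  have key : ∀ y', (f' ≫ g') y' ∈ V → (FibreFlatAt f g F (qX y') ↔ y' ∈ O) := fun y' hy' =>
    (fibreFlatAt_baseChange f g F hY hX y').symm.trans (hVO y' hy')
  by_cases hmem : η' ∈ O
  · obtain ⟨U, hU, hUeq⟩ := hind.isOpen_iff.1 (((f' ≫ g') ⁻¹ᵁ V).isOpen.inter hO)
    refine ⟨U, hU, ⟨η, ?_, hη.mem⟩, fun y hy => ?_⟩
    · rw [← hη']
      show η' ∈ qX ⁻¹' U
      rw [hUeq]
      exact ⟨hη'V, hmem⟩
    · obtain ⟨y', rfl⟩ := hTr hy.2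
      have hy' : y' ∈ qX ⁻¹' U := hy.1
      rw [hUeq] at hy'
      exact (key y' hy'.1).2 hy'.2
  · exfalso
    obtain ⟨U, hU, hUeq⟩ := hind.isOpen_iff.1 ((f' ≫ g') ⁻¹ᵁ V).isOpen
    have hηU : η ∈ U := by
      rw [← hη']
      show η' ∈ qX ⁻¹' U
      rw [hUeq]
      exact hη'V
    obtain ⟨y, hyU, hyE, hyT⟩ := mem_closure_iff.1 (hdense hη.mem) U hU hηU
    obtain ⟨y', rfl⟩ := hTr hyT
    have hy' : y' ∈ qX ⁻¹' U := hyU
    rw [hUeq] at hy'
    have hsp : η' ⤳ y' := hind.specializes_iff.1 (by rw [hη']; exact hη.specializes hyT)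
    exact hmem (hsp.mem_open hO ((key y' hy').1 hyE))

/-- The affine case. -/
theorem isConstructible_of_affine {A : Type u} [CommRing A] {X Y : Scheme.{u}} (f : X ⟶ Y)
    (g : Y ⟶ Spec (CommRingCat.of A)) [LocallyOfFinitePresentation g] [QuasiCompact g] [QuasiSeparated g]
    [LocallyOfFinitePresentation (f ≫ g)] [QuasiCompact (f ≫ g)] [QuasiSeparated (f ≫ g)]
    (F : X.Modules) [F.IsQuasicoherent] (hF : CohB1.IsFP F) :
    IsConstructible {x : X | FibreFlatAt f g F x} := by
  haveI : ∀ (i j : (FgSub A)ᵒᵖ) (φ : i ⟶ j), IsAffineHom ((fgDiagram A).map φ) := inferInstance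
  haveI : ∀ i, IsLocallyNoetherian ((fgDiagram A).obj i) := fun i => inferInstance
  obtain ⟨i, M, G, hG, ⟨e⟩⟩ := ModDesc5.exists_stage_module (isLimitFgCone A)
    (f := (f ≫ g : _ ⟶ (fgCone A).pt)) F hF
  obtain ⟨j, ⟨N⟩⟩ := exists_model (fgDiagram A) (fgCone A) (isLimitFgCone A) (X := Y) g
  let φ := IsCofiltered.minToLeft i j
  let MX := M.map (fgDiagram A) (fgCone A) φ
  let MY := N.map (fgDiagram A) (fgCone A) (IsCofiltered.minToRight i j)
  obtain ⟨e₁⟩ := ModDesc.exists_pullback_iso M φ G F e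
  have hG₁ := ModDesc.isCoh_pullback (pullback.fst M.hom ((fgDiagram A).map φ)) G hG
  haveI := compactSpace_model (fgDiagram A) (fgCone A) MX
  haveI := quasiSeparatedSpace_model (fgDiagram A) (fgCone A) MX
  obtain ⟨l, f₀, hf₀, hπ⟩ := exists_hom (fgDiagram A) MX.hom MY.hom MX.isPullback MY.isPullback
    (isLimitFgCone A) f rfl
  let MX' := MX.map (fgDiagram A) (fgCone A) l.hom
  let MY' := MY.map (fgDiagram A) (fgCone A) l.hom
  let G₂ : MX'.obj.Modules := (Scheme.Modules.pullback (pullback.fst MX.hom ((fgDiagram A).map l.hom))).obj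
    ((Scheme.Modules.pullback (pullback.fst M.hom ((fgDiagram A).map φ))).obj G)
  obtain ⟨e₂⟩ := ModDesc.exists_pullback_iso MX l.hom
    ((Scheme.Modules.pullback (pullback.fst M.hom ((fgDiagram A).map φ))).obj G) F e₁
  have hG₂ : Coh.IsCoh G₂ := ModDesc.isCoh_pullback _ _ hG₁
  haveI : G₂.IsQuasicoherent := hG₂.1
  have hw : MX'.proj ≫ f₀ = f ≫ MY'.proj := hπ
  have hcomp : f₀ ≫ MY'.hom = MX'.hom := hf₀
  haveI : LocallyOfFinitePresentation (f₀ ≫ MY'.hom) := by rw [hcomp]; exact MX'.lfp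
  haveI : QuasiCompact (f₀ ≫ MY'.hom) := by rw [hcomp]; exact MX'.qc
  have hX₀ : IsPullback MX'.proj f f₀ MY'.proj := by
    refine IsPullback.of_bot ?_ hw MY'.isPullback
    rw [hcomp]
    exact MX'.isPullback
  haveI : IsLocallyNoetherian MX'.obj := LocallyOfFiniteType.isLocallyNoetherian MX'.hom
  haveI : CompactSpace MX'.obj := QuasiCompact.compactSpace_of_compactSpace MX'.hom
  haveI : IsNoetherian MX'.obj := ⟨⟩
  haveI : IsNoetherian (pullback MX.hom ((fgDiagram A).map l.hom)) := (inferInstance : IsNoetherian MX'.obj)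
  have h := MX'.proj.isConstructible_preimage
    (isConstructible_of_noetherian f₀ MY'.hom G₂ (FunMor20.isFP_of_isCoh hG₂))
  convert h using 1
  ext x
  exact (fibreFlatAt_congr f g e₂.symm x).trans (fibreFlatAt_baseChange f₀ MY'.hom G₂ MY'.isPullback hX₀ x)

/-- The points of flatness on the fibres form a locally constructible set. -/
theorem isLocallyConstructible {X Y S : Scheme.{u}} (f : X ⟶ Y) (g : Y ⟶ S)
    [LocallyOfFinitePresentation g] [LocallyOfFinitePresentation (f ≫ g)]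
    (F : X.Modules) [F.IsQuasicoherent] (hF : CohB1.IsFP F) :
    IsLocallyConstructible {x : X | FibreFlatAt f g F x} := by
  intro x
  obtain ⟨W, hW, hxW, -⟩ := exists_isAffineOpen_mem_and_subset (show g (f x) ∈ (⊤ : S.Opens) from trivial)
  obtain ⟨V, hV, hxV, hVW⟩ := exists_isAffineOpen_mem_and_subset (show f x ∈ g ⁻¹ᵁ W from hxW)
  obtain ⟨U, hU, hxU, hUV⟩ := exists_isAffineOpen_mem_and_subset (show x ∈ f ⁻¹ᵁ V from hxV)
  refine ⟨U, U.isOpen.mem_nhds hxU, U.isOpen, ?_⟩
  haveI : IsAffine U.toScheme := hU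
  haveI : IsAffine V.toScheme := hV
  have hr : Set.range (V.ι ≫ g) ⊆ Set.range hW.fromSpec := by
    rw [hW.range_fromSpec]
    rintro - ⟨v, rfl⟩
    exact hVW v.2
  let g' : V.toScheme ⟶ Spec Γ(S, W) := IsOpenImmersion.lift hW.fromSpec (V.ι ≫ g) hr
  have hg' : g' ≫ hW.fromSpec = V.ι ≫ g := IsOpenImmersion.lift_fac ..
  let k := X.homOfLE (U := U) (V := f ⁻¹ᵁ V) hUV
  let f' : U.toScheme ⟶ V.toScheme := k ≫ (f ∣_ V)
  let F₁ := (Scheme.Modules.pullback (f ⁻¹ᵁ V).ι).obj F
  haveI := FittSheaf.isQuasicoherent_pullback (f ⁻¹ᵁ V).ι F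
  let F' := (Scheme.Modules.pullback k).obj F₁
  haveI := FittSheaf.isQuasicoherent_pullback k F₁
  have hF' : CohB1.IsFP F' := FittSheaf.isFP_pullback k F₁ (FittSheaf.isFP_pullback _ F hF)
  haveI : LocallyOfFinitePresentation g' := by
    have h : LocallyOfFinitePresentation (g' ≫ hW.fromSpec) := by rw [hg']; infer_instance
    exact DiagGrp.lfp_of_comp_of_lft g' hW.fromSpec h inferInstance
  have hfg : (f' ≫ g') ≫ hW.fromSpec = U.ι ≫ f ≫ g := by
    rw [Category.assoc, hg', ← X.homOfLE_ι (U := U) (V := f ⁻¹ᵁ V) hUV]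
    simp [f', k, morphismRestrict_ι_assoc]
  haveI : LocallyOfFinitePresentation (f' ≫ g') := by
    have h : LocallyOfFinitePresentation ((f' ≫ g') ≫ hW.fromSpec) := by rw [hfg]; infer_instance
    exact DiagGrp.lfp_of_comp_of_lft _ hW.fromSpec h inferInstance
  have h := isConstructible_of_affine (A := Γ(S, W)) f' g' F' hF'
  show IsConstructible (X := U.toScheme) {u | FibreFlatAt f g F (U.ι u)}
  refine Eq.subst (motive := fun E => IsConstructible E) (Set.ext fun u => Iff.symm ?_) h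
  refine (Iff.of_eq (congrArg (FibreFlatAt f g F) (?_ : U.ι u = (f ⁻¹ᵁ V).ι (k u)))).trans ?_
  · rw [← Scheme.Hom.comp_apply, X.homOfLE_ι]
  · refine ((fibreFlatAt_middle f g F (f ∣_ V) (f ⁻¹ᵁ V).ι V.ι (isPullback_morphismRestrict f V).flip (k u)).symm.trans
      (fibreFlatAt_source (f ∣_ V) (V.ι ≫ g) F₁ k u).symm).trans ?_
    rw [← hg']
    exact fibreFlatAt_openBase f' g' F' hW.fromSpec u

end GrothLib.FibFlatLocus13
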